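import Cfsg.Agent.UGT.U2.FOne.Mv
import Cfsg.Agent.MinSimple.VModule

/-!
# (ML), the rows of Lie type in characteristic two: the building part

`K` is a simple normal subgroup of the finite group `H`, seen through its building `Δ` (`FixBN.Sys`), `T` is a Sylow
2-subgroup of `H` with `K T = H` and `C_H(K) = 1`.

* `tp`, `delta_mem_tp`, `exists_smul`, `eq_top_of_tp` : Tits' lemma on the overgroups of `U c`;
* `HAct` : the action of `H` on the building; `exists_hact`;
* `OppSyl T` : either `T` is in a unique maximal subgroup of `H`, or there is a Sylow 2-subgroup `T'` such that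
  `⋂ O₂(R)`, over all proper `R ≥ T`, meets all proper `R' ≥ T'` trivially;
* `oppSyl_of_hact`.
-/

set_option autoImplicit false
set_option linter.unusedSectionVars false

namespace Cfsg.Agent.Omega.ML.LieRow

open Cfsg.Agent.Tits.Core Cfsg.Agent.Tits.Core.Bldg Cfsg.Agent.Tits.Exchange Cfsg.Agent.Tits
open Cfsg.Agent.FixBN Cfsg.Agent.FixBN.Cox Cfsg.Agent.UGT.U2.FOne Cfsg.Agent.ZN

variable {I : Type*} {M : CoxeterMatrix I} {W : Type*} [Group W] {cs : CoxeterSystem M W} {C : Type*}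
  {Δ : Bldg cs C}

local prefix:100 "ℓ" => cs.length

/-! ### Tits' lemma -/

section Tits

variable {G : Type*} [Group G] [MulAction G C] {p : ℕ}

variable (Δ) in
/-- the types `i` such that `X` moves `c` inside its `i`-panel -/
def tp (X : Subgroup G) (c : C) : Set I := {i | ∃ g ∈ X, Δ.δ c (g • c) = cs.simple i}

variable (S : Sys Δ G p) [F : OppRes.Cox cs]

include S

/-- `X` is transitive on the panels with type in `tp X c` -/
theorem exists_smul_pan {X : Subgroup G} {c : C} (hX : S.U c ≤ X) {i : I} (hi : i ∈ tp Δ X c) {y : C}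
    (hy : Δ.δ c y = cs.simple i) : ∃ g ∈ X, g • c = y := by
  obtain ⟨g, hg, hgc⟩ := hi
  obtain ⟨u, hu, huy⟩ := S.exists_move (hgc.trans hy.symm)
  exact ⟨u * g, mul_mem (hX hu) hg, by rw [mul_smul, huy]⟩

/-- **Tits' lemma** -/
theorem delta_mem_tp (hth : Δ.Thick) {X : Subgroup G} {c : C} (hX : S.U c ≤ X) :
    ∀ g ∈ X, Δ.δ c (g • c) ∈ WJ cs (tp Δ X c) := by
  have key : ∀ n : ℕ, ∀ g ∈ X, ℓ (Δ.δ c (g • c)) = n → Δ.δ c (g • c) ∈ WJ cs (tp Δ X c) := by
    intro n
    induction n using Nat.strong_induction_on with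
    | _ n ih =>
      intro g hg hn
      by_cases h1 : Δ.δ c (g • c) = 1
      · rw [h1]; exact one_mem _
      obtain ⟨i, hi⟩ := cs.exists_leftDescent_of_ne_one h1
      have hi' : ℓ (cs.simple i * Δ.δ c (g • c)) < ℓ (Δ.δ c (g • c)) := hi
      obtain ⟨y, hcy, hyg⟩ := exists_first Δ hi'
      -- a third chamber of the panel
      obtain ⟨a, b, hab, ha, hb⟩ := hth c i
      obtain ⟨z, hz, hzy⟩ : ∃ z, Δ.δ c z = cs.simple i ∧ z ≠ y := by
        by_cases h2 : a = y
        · exact ⟨b, hb, fun h3 => hab (h2.trans h3.symm)⟩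
        · exact ⟨a, ha, h2⟩
      -- `z` is at the same distance from `g • c` as `c`
      have hyz : Δ.δ y z = cs.simple i := by
        have h3 : z ∈ Δ.Pan i c := Or.inr hz
        have h4 : y ∈ Δ.Pan i c := Or.inr hcy
        exact Δ.δ_eq_of_mem_Pan h4 h3 (fun h => hzy h.symm)
      have hd : Δ.δ (g • c) z = Δ.δ (g • c) c := by
        have h3 : Δ.δ (g • c) y = (Δ.δ c (g • c))⁻¹ * cs.simple i := by
          rw [Δ.symm y (g • c), hyg, mul_inv_rev, cs.inv_simple]
        have h4 : ℓ (Δ.δ (g • c) y) < ℓ (Δ.δ (g • c) y * cs.simple i) := by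
          rw [h3, mul_assoc, cs.simple_mul_simple_self, mul_one, cs.length_inv]
          have h5 := cs.length_inv (cs.simple i * Δ.δ c (g • c))
          rw [mul_inv_rev, cs.inv_simple] at h5
          rw [h5]
          exact hi'
        rw [Δ.step_lt (g • c) y z i hyz h4, h3, mul_assoc, cs.simple_mul_simple_self, mul_one,
          ← Δ.symm c (g • c)]
      obtain ⟨u, hu, huz⟩ := S.exists_move hd.symm
      have huX : u ∈ X := by
        have h3 : g * (g⁻¹ * u * g) * g⁻¹ ∈ S.U (g • c) := by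
          have : g * (g⁻¹ * u * g) * g⁻¹ = u := by group
          rwa [this]
        have h4 := hX ((S.conj_mem_U_iff).1 h3)
        have h5 := mul_mem (mul_mem hg h4) (inv_mem hg)
        have : g * (g⁻¹ * u * g) * g⁻¹ = u := by group
        rwa [this] at h5
      have hiJ : i ∈ tp Δ X c := ⟨u, huX, by rw [huz]; exact hz⟩
      obtain ⟨k, hk, hky⟩ := exists_smul_pan S hX hiJ hcy
      have h3 : Δ.δ c ((k⁻¹ * g) • c) = cs.simple i * Δ.δ c (g • c) := by
        rw [← hyg, ← hky, ← S.iso k c, smul_smul]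
        congr 2
        group
      have h4 := ih _ (by rw [← hn]; exact hi') (k⁻¹ * g) (mul_mem (inv_mem hk) hg) (by rw [h3])
      rw [h3] at h4
      have h5 := mul_mem (simple_mem_WJ cs hiJ) h4
      rwa [cs.simple_mul_simple_cancel_left] at h5
  exact fun g hg => key _ g hg rfl

/-- `X` is transitive on the chambers of `Res (tp X c) c` -/
theorem exists_smul {X : Subgroup G} {c : C} (hX : S.U c ≤ X) {y : C} (hy : y ∈ Δ.Res (tp Δ X c) c) :
    ∃ g ∈ X, g • c = y := by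
  refine Δ.Res_induction (p := fun y => ∃ g ∈ X, g • c = y) ⟨1, one_mem _, one_smul _ _⟩ ?_ hy
  rintro y - z i hi hyz ⟨g, hg, rfl⟩
  have h1 : Δ.δ c (g⁻¹ • z) = cs.simple i := by
    rw [← hyz, ← S.iso g c, smul_inv_smul]
  obtain ⟨k, hk, hkz⟩ := exists_smul_pan S hX hi h1
  exact ⟨g * k, mul_mem hg hk, by rw [mul_smul, hkz, smul_inv_smul]⟩

/-- `G` is transitive on the chambers -/
theorem exists_smul_top (hth : Δ.Thick) (c y : C) : ∃ g : G, g • c = y := by
  have hX : S.U c ≤ (⊤ : Subgroup G) := le_top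
  have h1 : tp Δ (⊤ : Subgroup G) c = Set.univ := by
    rw [Set.eq_univ_iff_forall]
    intro i
    -- a chamber opposite to two chambers of a panel
    obtain ⟨a, b, hab, ha, hb⟩ := hth c i
    have hba : Δ.δ a b = cs.simple i := Δ.δ_eq_of_mem_Pan (Or.inr ha) (Or.inr hb) hab
    have hac : Δ.δ a c = cs.simple i := Δ.δ_symm_simple ha
    obtain ⟨u, -, hu⟩ := S.exists_move (hac.trans hba.symm)
    exact ⟨u, Subgroup.mem_top _, by rw [hu]; exact hb⟩
  obtain ⟨g, -, hg⟩ := exists_smul S hX (y := y) (by rw [h1, Δ.Res_univ]; trivial)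
  exact ⟨g, hg⟩

/-- `X` is the whole group if all types occur -/
theorem eq_top_of_tp (hth : Δ.Thick) [hs : IsSimpleGroup G] [Nonempty I] {X : Subgroup G} {c : C} (hX : S.U c ≤ X)
    (h : tp Δ X c = Set.univ) : X = ⊤ := by
  have h1 : ∀ y : C, S.U y ≤ X := by
    intro y u hu
    obtain ⟨g, hg, rfl⟩ := exists_smul S hX (y := y) (by rw [h, Δ.Res_univ]; trivial)
    have h3 : g * (g⁻¹ * u * g) * g⁻¹ ∈ S.U (g • c) := by
      have : g * (g⁻¹ * u * g) * g⁻¹ = u := by group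
      rwa [this]
    have h4 := hX ((S.conj_mem_U_iff).1 h3)
    have h5 := mul_mem (mul_mem hg h4) (inv_mem hg)
    have : g * (g⁻¹ * u * g) * g⁻¹ = u := by group
    rwa [this] at h5
  have h2 : (⨆ y, S.U y : Subgroup G).Normal := by
    constructor
    intro n hn g
    refine Subgroup.iSup_induction (S.U) (C := fun n => g * n * g⁻¹ ∈ (⨆ y, S.U y : Subgroup G)) hn ?_ ?_ ?_
    · intro y u hu
      exact (le_iSup S.U (g • y)) (S.conj_mem_U hu g)
    · simp
    · intro a b ha hb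
      have := mul_mem ha hb
      have e : g * a * g⁻¹ * (g * b * g⁻¹) = g * (a * b) * g⁻¹ := by group
      rwa [e] at this
  rcases hs.eq_bot_or_eq_top_of_normal _ h2 with h3 | h3
  · exfalso
    obtain ⟨i⟩ := (inferInstance : Nonempty I)
    obtain ⟨a, b, hab, ha, hb⟩ := hth c i
    obtain ⟨u, hu, huy⟩ := exists_move_adj S hth ha
    have h4 : u ∈ (⨆ y, S.U y : Subgroup G) := (le_iSup S.U c) hu
    rw [h3, Subgroup.mem_bot] at h4
    apply huy
    rw [h4, one_smul]
  · rw [eq_top_iff, ← h3]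
    exact iSup_le h1

/-- `G` is faithful on the chambers -/
theorem eq_one_of_smul (hth : Δ.Thick) [hs : IsSimpleGroup G] [Nonempty I] [Nonempty C] {g : G} (h : ∀ x : C, g • x = x) :
    g = 1 := by
  have h1 : (MulAction.toPermHom G C).ker.Normal := inferInstance
  rcases hs.eq_bot_or_eq_top_of_normal _ h1 with h3 | h3
  · have h4 : g ∈ (MulAction.toPermHom G C).ker := by
      rw [MonoidHom.mem_ker]
      ext x
      exact h x
    rwa [h3, Subgroup.mem_bot] at h4
  · exfalso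
    obtain ⟨i⟩ := (inferInstance : Nonempty I)
    obtain ⟨c⟩ := (inferInstance : Nonempty C)
    obtain ⟨a, b, hab, ha, hb⟩ := hth c i
    obtain ⟨u, hu, huy⟩ := exists_move_adj S hth ha
    have h4 : u ∈ (MulAction.toPermHom G C).ker := by rw [h3]; trivial
    rw [MonoidHom.mem_ker] at h4
    exact huy (Equiv.ext_iff.1 h4 a)

end Tits

/-! ### The action of `H` -/

variable {H : Type*} [Group H]

/-- the action of `H` on the building of its normal subgroup `K` -/
structure HAct (Δ : Bldg cs C) (K : Subgroup H) [MulAction K C] where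
  θ : H → C → C
  φ : H → W ≃* W
  σ : H → I → I
  θ_mul : ∀ g h x, θ (g * h) x = θ g (θ h x)
  θ_K : ∀ (k : K) x, θ k x = k • x
  φ_simple : ∀ h i, φ h (cs.simple i) = cs.simple (σ h i)
  δ_θ : ∀ h x y, Δ.δ (θ h x) (θ h y) = φ h (Δ.δ x y)

/-- the action exists -/
theorem exists_hact {K : Subgroup H} [K.Normal] [MulAction K C] {p : ℕ} (S : Sys Δ K p) [F : OppRes.Cox cs]
    [Finite C] [Finite H] (hth : Δ.Thick) (hmv : ∀ τ : K ≃* K, ∃ t : Mv Δ K, t.τ = τ) :
    Nonempty (HAct Δ K) := by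
  choose t ht using fun h : H => hmv (MulAut.conjNormal h)
  refine ⟨⟨fun h => (t h).θ, fun h => (t h).φ, fun h => (t h).σ, ?_, ?_, fun h => (t h).φ_simple,
    fun h => (t h).δ_θ⟩⟩
  · intro g h x
    refine Mv.θ_eq S hth (t := t (g * h)) (t' := Mv.comp (t g) (t h)) ?_ x
    intro k
    change (t (g * h)).τ k = (t g).τ ((t h).τ k)
    rw [ht, ht, ht, map_mul]
    rfl
  · intro k x
    refine Mv.θ_eq S hth (t := t k) (t' := Mv.inner S k) ?_ x
    intro g
    change (t (k : H)).τ g = k * g * k⁻¹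
    rw [ht]
    exact Subtype.ext (MulAut.conjNormal_apply (k : H) g)

namespace HAct

variable {K : Subgroup H} [MulAction K C] (A : HAct Δ K)

theorem θ_one (x : C) : A.θ 1 x = x := by
  have := A.θ_K 1 x
  rwa [one_smul] at this

theorem θ_inv_θ (h : H) (x : C) : A.θ h⁻¹ (A.θ h x) = x := by
  rw [← A.θ_mul, inv_mul_cancel, A.θ_one]

theorem θ_θ_inv (h : H) (x : C) : A.θ h (A.θ h⁻¹ x) = x := by
  rw [← A.θ_mul, mul_inv_cancel, A.θ_one]

theorem θ_inj (h : H) {x y : C} (e : A.θ h x = A.θ h y) : x = y := by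
  rw [← A.θ_inv_θ h x, e, A.θ_inv_θ]

theorem φ_mul [Nonempty C] (g h : H) (w : W) : A.φ (g * h) w = A.φ g (A.φ h w) := by
  obtain ⟨x⟩ := (inferInstance : Nonempty C)
  obtain ⟨y, rfl⟩ := Δ.exists_δ x w
  rw [← A.δ_θ, ← A.δ_θ, ← A.δ_θ, A.θ_mul, A.θ_mul]

theorem φ_K [Nonempty C] {p : ℕ} (S : Sys Δ K p) (k : K) (w : W) : A.φ k w = w := by
  obtain ⟨x⟩ := (inferInstance : Nonempty C)
  obtain ⟨y, rfl⟩ := Δ.exists_δ x w
  rw [← A.δ_θ, A.θ_K, A.θ_K, S.iso]

theorem φ_one [Nonempty C] (w : W) : A.φ 1 w = w := by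
  obtain ⟨x⟩ := (inferInstance : Nonempty C)
  obtain ⟨y, rfl⟩ := Δ.exists_δ x w
  rw [← A.δ_θ, A.θ_one, A.θ_one]

theorem length_φ [Nonempty C] (h : H) (w : W) : ℓ (A.φ h w) = ℓ w := by
  apply le_antisymm (length_map_le (A.φ_simple h) w)
  have h1 := length_map_le (A.φ_simple h⁻¹) (A.φ h w)
  rwa [← A.φ_mul, inv_mul_cancel, A.φ_one] at h1

variable [F : OppRes.Cox cs]

theorem φ_w0 [Nonempty C] (h : H) : A.φ h (w0 cs) = w0 cs := by
  have h1 := F.len_w0_mul (A.φ h (w0 cs))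
  rw [A.length_φ] at h1
  have h2 : w0 cs * A.φ h (w0 cs) = 1 := cs.length_eq_zero_iff.1 (by omega)
  rw [eq_inv_of_mul_eq_one_right h2, F.w0_inv]

theorem σ_mul [Nonempty C] (g h : H) (i : I) : A.σ (g * h) i = A.σ g (A.σ h i) := by
  apply F.inj
  rw [← A.φ_simple, ← A.φ_simple, ← A.φ_simple, A.φ_mul]

theorem σ_K [Nonempty C] {p : ℕ} (S : Sys Δ K p) (k : K) (i : I) : A.σ k i = i := by
  apply F.inj
  rw [← A.φ_simple, A.φ_K S]

theorem σ_one [Nonempty C] (i : I) : A.σ 1 i = i := by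
  apply F.inj
  rw [← A.φ_simple, A.φ_one]

theorem σ_inv_σ [Nonempty C] (h : H) (i : I) : A.σ h⁻¹ (A.σ h i) = i := by
  rw [← A.σ_mul, inv_mul_cancel, A.σ_one]

theorem σ_op [Nonempty C] (h : H) (i : I) : A.σ h (op cs i) = op cs (A.σ h i) := by
  apply F.inj
  rw [← A.φ_simple, F.op, map_mul, map_mul, A.φ_w0, A.φ_simple, F.op]

/-- `J` is invariant -/
def Inv (J : Set I) : Prop := ∀ (h : H), ∀ i ∈ J, A.σ h i ∈ J

variable {A}

theorem Inv.φ_mem {J : Set I} (hJ : A.Inv J) (h : H) {w : W} (hw : w ∈ WJ cs J) : A.φ h w ∈ WJ cs J :=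
  mem_WJ_map (A.φ_simple h) (hJ h) hw

theorem Inv.op [Nonempty C] {J : Set I} (hJ : A.Inv J) : A.Inv (op cs '' J) := by
  rintro h _ ⟨i, hi, rfl⟩
  exact ⟨A.σ h i, hJ h i hi, (A.σ_op h i).symm⟩

/-- the stabiliser of the residue of an invariant type -/
def Stb (J : Set I) (hJ : A.Inv J) (c : C) : Subgroup H where
  carrier := {h | Δ.δ c (A.θ h c) ∈ WJ cs J}
  one_mem' := by
    change Δ.δ c (A.θ 1 c) ∈ WJ cs J
    rw [A.θ_one, Δ.δ_self]
    exact one_mem _
  mul_mem' := by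
    intro g h hg hh
    change Δ.δ c (A.θ (g * h) c) ∈ WJ cs J
    rw [A.θ_mul]
    have h1 : Δ.δ (A.θ g c) (A.θ g (A.θ h c)) ∈ WJ cs J := by
      rw [A.δ_θ]
      exact hJ.φ_mem g hh
    exact OppRes.delta_mem_of_mem hg h1
  inv_mem' := by
    intro h hh
    change Δ.δ c (A.θ h⁻¹ c) ∈ WJ cs J
    have h1 : Δ.δ (A.θ h⁻¹ (A.θ h c)) (A.θ h⁻¹ c) ∈ WJ cs J := by
      rw [A.δ_θ]
      apply hJ.φ_mem
      rw [Δ.symm c (A.θ h c)]
      exact inv_mem hh
    rwa [A.θ_inv_θ] at h1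

theorem mem_Stb {J : Set I} {hJ : A.Inv J} {c : C} {h : H} : h ∈ Stb J hJ c ↔ Δ.δ c (A.θ h c) ∈ WJ cs J := Iff.rfl

end HAct

end Cfsg.Agent.Omega.ML.LieRow
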