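import Cfsg.Agent.Omega.ML.LieRow.Bld
import Cfsg.Agent.Lib.SylowNormalInf

/-!
# (ML), the rows of Lie type in characteristic two: the opposite Sylow group

* `OppSyl T` : either `T` is in a unique maximal subgroup of `H`, or there is a Sylow 2-subgroup `T'` such that
  `⋂ O₂(R)`, over all proper `R ≥ T`, meets all proper `R' ≥ T'` trivially;
* `oppSyl_of_hact` : `K` simple, with a building, `C_H(K) = 1`, `K T = H` implies `OppSyl T`.
-/

set_option autoImplicit false
set_option linter.unusedSectionVars false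

namespace Cfsg.Agent.Omega.ML.LieRow

open Cfsg.Agent.Tits.Core Cfsg.Agent.Tits.Core.Bldg Cfsg.Agent.Tits.Exchange Cfsg.Agent.Tits
open Cfsg.Agent.FixBN Cfsg.Agent.FixBN.Cox Cfsg.Agent.UGT.U2.FOne Cfsg.Agent.ZN

/-- Either `T` is in a unique maximal subgroup of `H`, or there is a Sylow 2-subgroup `T'` such that `⋂ O₂(R)`, over all
proper `R ≥ T`, meets all proper `R' ≥ T'` trivially. -/
def OppSyl {H : Type*} [Group H] (T : Subgroup H) : Prop :=
  (∃ N : Subgroup H, N ≠ ⊤ ∧ ∀ R : Subgroup H, T ≤ R → R ≠ ⊤ → R ≤ N) ∨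
  (∃ T' : Subgroup H, IsPGroup 2 T' ∧ ¬ 2 ∣ T'.index ∧
    ∀ x : H, (∀ R : Subgroup H, T ≤ R → R ≠ ⊤ → x ∈ o2 R) →
      ∀ R' : Subgroup H, T' ≤ R' → R' ≠ ⊤ → x ∈ R' → x = 1)

variable {I : Type*} {M : CoxeterMatrix I} {W : Type*} [Group W] {cs : CoxeterSystem M W} {C : Type*}
  {Δ : Bldg cs C}

local prefix:100 "ℓ" => cs.length

variable {H : Type*} [Group H] {K : Subgroup H} [MulAction K C] (A : HAct Δ K)
  [F : OppRes.Cox cs] (S : Sys Δ K 2)

include A S

theorem θ_conj [K.Normal] (h : H) (k : K) (x : C) : A.θ h (k • x) = MulAut.conjNormal h k • A.θ h x := by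
  rw [← A.θ_K, ← A.θ_K, ← A.θ_mul, ← A.θ_mul, MulAut.conjNormal_apply]
  congr 1
  group

theorem conj_mem_U [K.Normal] (h : H) {k : K} {x : C} (hk : k ∈ S.U x) : MulAut.conjNormal h k ∈ S.U (A.θ h x) := by
  have h1 : IsPGroup 2 ((S.U x).map (MulAut.conjNormal h : MulAut K).toMonoidHom) := (S.isP x).map _
  refine S.max _ _ h1 ?_ (Subgroup.mem_map_of_mem _ hk)
  rintro _ ⟨v, hv, rfl⟩
  change MulAut.conjNormal h v • A.θ h x = A.θ h x
  rw [← θ_conj A S, S.fix x v hv]

/-- `T` fixes a chamber -/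
theorem exists_chamber [K.Normal] [Finite H] [Finite C] (hth : Δ.Thick) {T : Subgroup H} (hT : IsPGroup 2 T)
    (hTi : ¬ 2 ∣ T.index) : ∃ c : C, (∀ t ∈ T, A.θ t c = c) ∧ S.U c = T.subgroupOf K := by
  have hV : IsPGroup 2 (T.subgroupOf K) := hT.comap_of_injective _ K.subtype_injective
  obtain ⟨c, hc⟩ := S.exists_fix _ hV
  have h1 : T.subgroupOf K ≤ S.U c := S.max c _ hV hc
  have hUc : S.U c = T.subgroupOf K := by
    have : Fact (Nat.Prime 2) := ⟨Nat.prime_two⟩
    have h2 : ¬ 2 ∣ (T.subgroupOf K).index :=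
      Lib.SylowNormalInf.not_dvd_relIndex (hT.toSylow hTi) K
    have h3 := ((hV.toSylow h2 : Sylow 2 K).is_maximal' (S.isP c) h1)
    exact h3
  refine ⟨c, fun t ht => ?_, hUc⟩
  apply U_inj S hth
  apply le_antisymm
  · intro u hu
    have h2 := conj_mem_U A S t⁻¹ hu
    rw [A.θ_inv_θ, hUc, Subgroup.mem_subgroupOf, MulAut.conjNormal_apply, inv_inv] at h2
    rw [hUc, Subgroup.mem_subgroupOf]
    have h3 := mul_mem (mul_mem ht h2) (inv_mem ht)
    have e : t * (t⁻¹ * (u : H) * t) * t⁻¹ = u := by group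
    rwa [e] at h3
  · intro u hu
    rw [hUc, Subgroup.mem_subgroupOf] at hu
    have h2 : (MulAut.conjNormal t⁻¹ u : K) ∈ S.U c := by
      rw [hUc, Subgroup.mem_subgroupOf, MulAut.conjNormal_apply, inv_inv]
      exact mul_mem (mul_mem (inv_mem ht) hu) ht
    have h3 := conj_mem_U A S t h2
    have e : (MulAut.conjNormal t (MulAut.conjNormal t⁻¹ u) : K) = u := by
      rw [← MulAut.mul_apply, ← map_mul, mul_inv_cancel, map_one, MulAut.one_apply]
    rwa [e] at h3

section Over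

variable [Nonempty C] {T R : Subgroup H} (hKT : K ⊔ T = ⊤)

include hKT

theorem exists_kt [K.Normal] (h : H) : ∃ k : K, ∃ t ∈ T, h = k * t := by
  have h1 : h ∈ K ⊔ T := by rw [hKT]; trivial
  rw [Subgroup.mem_sup_of_normal_left] at h1
  obtain ⟨k, hk, t, ht, rfl⟩ := h1
  exact ⟨⟨k, hk⟩, t, ht, rfl⟩

/-- invariance under `T` is invariance under `H` -/
theorem inv_of_T [K.Normal] {J : Set I} (hJ : ∀ t ∈ T, ∀ i ∈ J, A.σ t i ∈ J) : A.Inv J := by
  intro h i hi
  obtain ⟨k, t, ht, rfl⟩ := exists_kt A S hKT h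
  rw [A.σ_mul, A.σ_K S]
  exact hJ t ht i hi

/-- **the overgroups of `T`** -/
theorem over_T [K.Normal] [IsSimpleGroup K] [Nonempty I] (hth : Δ.Thick) {c : C} (hc : ∀ t ∈ T, A.θ t c = c)
    (hU : S.U c ≤ R.subgroupOf K) (hTR : T ≤ R) (hR : R ≠ ⊤) :
    ∃ J : Set I, A.Inv J ∧ J ≠ Set.univ ∧ ∀ h ∈ R, Δ.δ c (A.θ h c) ∈ WJ cs J := by
  refine ⟨tp Δ (R.subgroupOf K) c, ?_, ?_, ?_⟩
  · apply inv_of_T A S hKT
    rintro t ht i ⟨g, hg, hgc⟩
    refine ⟨MulAut.conjNormal t g, ?_, ?_⟩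
    · rw [Subgroup.mem_subgroupOf, MulAut.conjNormal_apply]
      exact mul_mem (mul_mem (hTR ht) hg) (inv_mem (hTR ht))
    · have h1 := θ_conj A S t g c
      rw [hc t ht] at h1
      have h2 : Δ.δ c (A.θ t (g • c)) = Δ.δ (A.θ t c) (A.θ t (g • c)) := by rw [hc t ht]
      rw [← h1, h2, A.δ_θ, hgc, A.φ_simple]
  · intro h1
    have h2 := eq_top_of_tp S hth hU h1
    apply hR
    rw [eq_top_iff, ← hKT]
    exact sup_le (Subgroup.subgroupOf_eq_top.1 h2) hTR
  · intro h hh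
    obtain ⟨k, t, ht, rfl⟩ := exists_kt A S hKT h
    rw [A.θ_mul, hc t ht, A.θ_K]
    refine delta_mem_tp S hth hU k ?_
    rw [Subgroup.mem_subgroupOf]
    have h1 := mul_mem hh (inv_mem (hTR ht))
    rwa [mul_inv_cancel_right] at h1

omit hKT in
/-- the stabiliser of a residue of proper invariant type is a proper overgroup of `T` -/
theorem Stb_ne_top (hth : Δ.Thick) {J : Set I} (hJ : A.Inv J) (hJu : J ≠ Set.univ) (c : C) :
    HAct.Stb J hJ c ≠ ⊤ := by
  intro h
  obtain ⟨i, hi⟩ := (Set.ne_univ_iff_exists_notMem J).1 hJu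
  obtain ⟨y, -, -, hy, -⟩ := hth c i
  obtain ⟨g, hg⟩ := exists_smul_top S hth c y
  have h1 : (g : H) ∈ HAct.Stb J hJ c := by rw [h]; trivial
  rw [HAct.mem_Stb, A.θ_K, hg, hy] at h1
  apply hi
  apply F.descent_mem J _ h1 i
  rw [cs.simple_mul_simple_self, cs.length_one, cs.length_simple]
  exact Nat.one_pos

omit hKT in
theorem le_Stb {J : Set I} (hJ : A.Inv J) {c : C} (hc : ∀ t ∈ T, A.θ t c = c) : T ≤ HAct.Stb J hJ c := by
  intro t ht
  rw [HAct.mem_Stb, hc t ht, Δ.δ_self]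
  exact one_mem _

omit hKT in
/-- `O₂` of the stabiliser of a residue fixes the chambers of the residue -/
theorem fix_of_o2 [K.Normal] [Finite H] (hth : Δ.Thick) (hT : IsPGroup 2 T) (hTi : ¬ 2 ∣ T.index) {J : Set I} (hJ : A.Inv J)
    {c : C} (hc : ∀ t ∈ T, A.θ t c = c) {x : H} (hx : x ∈ o2 (HAct.Stb J hJ c)) {y : C} (hy : y ∈ Δ.Res J c) :
    A.θ x y = y := by
  obtain ⟨g, rfl⟩ := exists_smul_top S hth c y
  have hg : (g : H) ∈ HAct.Stb J hJ c := by
    rw [HAct.mem_Stb, A.θ_K]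
    exact hy
  have h1 : (g : H)⁻¹ * x * (g : H) ∈ o2 (HAct.Stb J hJ c) := by
    have h2 := MinSimple.VModule.le_normalizer_o2 (HAct.Stb J hJ c) (inv_mem hg)
    have h3 := (Subgroup.mem_normalizer_iff.1 h2 x).1 hx
    rwa [inv_inv] at h3
  have h2 : ¬ 2 ∣ T.relIndex (HAct.Stb J hJ c) := fun h =>
    hTi (h.trans (Subgroup.relIndex_dvd_index_of_le (le_Stb A S hJ hc)))
  have h3 := hc _ (MinSimple.VModule.o2_le_of_sylow hT h2 h1)
  have h4 : A.θ (g : H) (A.θ ((g : H)⁻¹ * x * (g : H)) c) = A.θ x (g • c) := by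
    rw [← A.θ_mul, ← A.θ_K, ← A.θ_mul]
    congr 1
    group
  rw [← h4, h3, A.θ_K]

end Over

/-- **The opposite Sylow group.** -/
theorem oppSyl_of_hact [K.Normal] [Finite H] [Finite C] [Nonempty I] [IsSimpleGroup K] (hth : Δ.Thick)
    (hC : ∀ h : H, (∀ k ∈ K, h * k = k * h) → h = 1) {T : Subgroup H} (hT : IsPGroup 2 T) (hTi : ¬ 2 ∣ T.index)
    (hKT : K ⊔ T = ⊤) : OppSyl T := by
  obtain ⟨c, hc, hUc⟩ := exists_chamber A S hth hT hTi
  have : Nonempty C := ⟨c⟩
  by_cases htr : ∀ i j : I, ∃ t ∈ T, A.σ t i = j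
  · -- one orbit
    left
    have hE : A.Inv (∅ : Set I) := fun _ i hi => absurd hi (Set.notMem_empty i)
    refine ⟨HAct.Stb ∅ hE c, Stb_ne_top A S hth hE (Set.empty_ne_univ) c, ?_⟩
    intro R hTR hR
    have hU : S.U c ≤ R.subgroupOf K := by
      rw [hUc]
      exact fun k hk => hTR hk
    obtain ⟨J, hJ, hJu, hRJ⟩ := over_T A S hKT hth hc hU hTR hR
    have hJe : J = ∅ := by
      by_contra hne
      obtain ⟨i, hi⟩ := Set.nonempty_iff_ne_empty.2 hne
      apply hJu
      rw [Set.eq_univ_iff_forall]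
      intro j
      obtain ⟨t, -, rfl⟩ := htr i j
      exact hJ t i hi
    subst hJe
    exact hRJ
  · right
    push Not at htr
    obtain ⟨i₀, j₀, hij⟩ := htr
    obtain ⟨d, hd⟩ := Δ.exists_δ c (w0 cs)
    -- the opposite Sylow group
    have hV : IsPGroup 2 ((S.U d).map K.subtype) := (S.isP d).map _
    obtain ⟨P, hP⟩ := hV.exists_le_sylow
    have : Fact (Nat.Prime 2) := ⟨Nat.prime_two⟩
    refine ⟨P, P.isPGroup', P.not_dvd_index, ?_⟩
    intro x hx R' hPR' hR' hxR'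
    -- `P` fixes `d`
    have hPd : ∀ t ∈ (P : Subgroup H), A.θ t d = d := by
      obtain ⟨e, he, hUe⟩ := exists_chamber A S hth P.isPGroup' P.not_dvd_index
      have h1 : d = e := by
        apply eq_of_fix S hth
        intro u hu
        apply S.fix
        rw [hUe, Subgroup.mem_subgroupOf]
        exact hP ⟨u, hu, rfl⟩
      rw [h1]
      exact he
    have hKP : K ⊔ (P : Subgroup H) = ⊤ := by
      obtain ⟨g, hg⟩ := MulAction.exists_smul_eq H (hT.toSylow hTi) P
      rw [eq_top_iff]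
      intro h _
      have h1 : g⁻¹ * h * g ∈ K ⊔ T := by rw [hKT]; trivial
      rw [Subgroup.mem_sup_of_normal_left] at h1 ⊢
      obtain ⟨k, hk, t, ht, hkt⟩ := h1
      refine ⟨g * k * g⁻¹, Subgroup.Normal.conj_mem inferInstance k hk g, g * t * g⁻¹, ?_, ?_⟩
      · rw [← hg]
        exact ⟨t, ht, rfl⟩
      · have : g * k * g⁻¹ * (g * t * g⁻¹) = g * (k * t) * g⁻¹ := by group
        rw [this, hkt]
        group
    -- the type of `R'`
    have hUd : S.U d ≤ R'.subgroupOf K := by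
      intro u hu
      exact hPR' (hP ⟨u, hu, rfl⟩)
    obtain ⟨L, hL, hLu, hRL⟩ := over_T A S hKP hth hPd hUd hPR' hR'
    -- `x` fixes the residues
    have hxJ : ∀ J : Set I, A.Inv J → J ≠ Set.univ → ∀ y ∈ Δ.Res J c, A.θ x y = y := by
      intro J hJ hJu y hy
      exact fix_of_o2 A S hth hT hTi hJ hc (hx _ (le_Stb A S hJ hc) (Stb_ne_top A S hth hJ hJu c)) hy
    -- `x` fixes the panels at `c`
    have hxP : ∀ i, ∀ y ∈ Δ.Pan i c, A.θ x y = y := by
      intro i y hy
      set O : Set I := {j | ∃ t ∈ T, A.σ t i = j} with hO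
      have hOi : A.Inv O := by
        apply inv_of_T A S hKT
        rintro t ht _ ⟨s, hs, rfl⟩
        exact ⟨t * s, mul_mem ht hs, A.σ_mul t s i⟩
      have hiO : i ∈ O := ⟨1, one_mem _, A.σ_one i⟩
      refine hxJ O hOi ?_ y (Δ.Pan_subset_Res hiO c hy)
      intro h1
      obtain ⟨s, hs, hs'⟩ : i₀ ∈ O := by rw [h1]; trivial
      obtain ⟨t, ht, ht'⟩ : j₀ ∈ O := by rw [h1]; trivial
      apply hij (t * s⁻¹) (mul_mem ht (inv_mem hs))
      rw [A.σ_mul, ← hs', A.σ_inv_σ, ht']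
    have hxc : A.θ x c = c := hxP i₀ c (Δ.self_mem_Pan i₀ c)
    -- `x` preserves the types
    have hφ : ∀ w, A.φ x w = w := by
      have h1 : ∀ i, A.φ x (cs.simple i) = cs.simple i := by
        intro i
        obtain ⟨y, -, -, hy, -⟩ := hth c i
        rw [← hy, ← A.δ_θ, hxc, hxP i y (Δ.mem_Pan_of_δ hy)]
      intro w
      obtain ⟨ω, rfl⟩ := cs.wordProd_surjective w
      induction ω with
      | nil => simp
      | cons i ω ih => rw [cs.wordProd_cons, map_mul, ih, h1]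
    have hiso : ∀ a b, Δ.δ (A.θ x a) (A.θ x b) = Δ.δ a b := fun a b => by rw [A.δ_θ, hφ]
    -- `x` fixes `d`
    have hxd : A.θ x d = d := by
      set J := op cs '' L with hJdef
      have hJ : A.Inv J := hL.op
      have hJu : J ≠ Set.univ := by
        intro h1
        apply hLu
        have h2 := F.WJ_op_op L
        rw [← hJdef, h1] at h2
        rw [Set.eq_univ_iff_forall]
        intro i
        have h3 : cs.simple i ∈ WJ cs L := by
          rw [← h2]
          have h4 : cs.simple (op cs i) ∈ WJ cs (Set.univ : Set I) := simple_mem_WJ cs (Set.mem_univ _)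
          have h5 := F.conj_mem_op h4
          rwa [F.op, F.conj_cancel] at h5
        apply F.descent_mem L _ h3 i
        rw [cs.simple_mul_simple_self, cs.length_one, cs.length_simple]
        exact Nat.one_pos
      have hR : OppRes.OppR Δ J c d := OppRes.OppR.of_opp J hd
      have hdR : A.θ x d ∈ Δ.Res (op cs '' J) d := by
        rw [mem_Res, F.WJ_op_op]
        exact hRL x hxR'
      have h1 := OppRes.twist hR hdR
      -- the projections are equal
      have h2 : Δ.proj J c (A.θ x d) = Δ.proj J c d := by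
        apply Δ.proj_eq_of_isProj
        have h3 := Δ.isProj_proj J c d
        have h4 : ∀ a ∈ Δ.Res J c, Δ.δ (A.θ x d) a = Δ.δ d a := by
          intro a ha
          rw [← hxJ J hJ hJu a ha, hiso, hxJ J hJ hJu a ha]
        refine ⟨h3.1, fun a ha => ?_⟩
        rw [h4 a ha, h4 _ h3.1]
        exact h3.2 a ha
      rw [h2, Δ.δ_self] at h1
      have h3 : Δ.δ d (A.θ x d) = 1 := by
        have h4 := h1.symm
        rw [mul_inv_eq_one] at h4
        exact mul_eq_left.1 h4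
      exact (Δ.eq_of_δ_eq_one h3).symm
    -- `x` fixes all chambers
    have hall : ∀ y, A.θ x y = y := by
      intro y
      refine Rigid.rigid (Δ := Δ) (Δ' := Δ) hth (φ := fun y => A.θ x y) (ψ := fun y => y) (J := Set.univ) (c := c)
        (d := d) (fun a _ b _ => hiso a b) (fun a _ b _ => rfl) (fun i _ y hy => hxP i y hy) hd hxd y ?_
      rw [Δ.Res_univ]; trivial
    -- `x` centralises `K`
    apply hC
    intro k hk
    have h1 : (MulAut.conjNormal x ⟨k, hk⟩ : K) = ⟨k, hk⟩ := by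
      rw [← mul_inv_eq_one]
      apply eq_one_of_smul S hth
      intro y
      rw [mul_smul]
      have h2 := θ_conj A S x ⟨k, hk⟩ ((⟨k, hk⟩ : K)⁻¹ • y)
      rw [smul_inv_smul, hall, hall] at h2
      exact h2.symm
    have h2 := congrArg Subtype.val h1
    rw [MulAut.conjNormal_apply] at h2
    exact mul_inv_eq_iff_eq_mul.1 h2

end Cfsg.Agent.Omega.ML.LieRow
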